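import Cfsg.Agent.Lib.Flavell1933.Main
import Cfsg.Agent.Lib.Frobenius.FixedPointFree

/-!
General lemmas for the S1929 argument: quotient tests, commuting quasisimple subgroups, and solvability of a
group in which the fixed points of a coprime automorphism of prime order are central.
-/

set_option autoImplicit false
set_option linter.unusedSectionVars false
set_option linter.style.haveILetI false

namespace CfsgLib.Flavell1929

open Cfsg CfsgLib.Flavell1933
open scoped commutatorElement

universe u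

variable {X : Type u} [Group X] [Finite X]

theorem normalizer_of_centralizer (A : Subgroup X) :
    Subgroup.centralizer (A : Set X) ≤ Subgroup.normalizer (A : Set X) :=
  CfsgLib.Comp.centralizer_le_normalizer' A

theorem map_conj_map (g h : X) (A : Subgroup X) :
    (A.map (MulAut.conj h).toMonoidHom).map (MulAut.conj g).toMonoidHom = A.map (MulAut.conj (g * h)).toMonoidHom := by
  rw [Subgroup.map_map]
  congr 1
  ext x
  simp [mul_assoc]

theorem map_conj_one (A : Subgroup X) : A.map (MulAut.conj (1 : X)).toMonoidHom = A := by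
  ext x
  simp

theorem mem_normalizer_of_map {g : X} {A : Subgroup X} (h : A.map (MulAut.conj g).toMonoidHom = A) :
    g ∈ Subgroup.normalizer (A : Set X) := by
  refine Subgroup.mem_normalizer_iff.mpr fun x => ⟨fun hx => h ▸ ⟨x, hx, rfl⟩, fun hx => ?_⟩
  rw [← h] at hx
  obtain ⟨y, hy, e⟩ := hx
  exact (MulAut.conj g).injective e ▸ hy

theorem map_of_mem_normalizer {g : X} {A : Subgroup X} (h : g ∈ Subgroup.normalizer (A : Set X)) :
    A.map (MulAut.conj g).toMonoidHom = A := by
  refine Subgroup.eq_of_le_of_card_ge ?_ (Subgroup.card_map_of_injective (MulAut.conj g).injective).ge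
  rintro _ ⟨x, hx, rfl⟩
  exact (Subgroup.mem_normalizer_iff.mp h x).mp hx

/-- A member of a perfect group generated by commuting perfect pieces lies in the commutator with `R` unless `R`
centralises it. -/
theorem le_commutator_of_moved {Y K R : Subgroup X} (hRY : R ≤ Subgroup.normalizer (Y : Set X)) (hKY : K ≤ Y)
    (hYK : Y ≤ Subgroup.normalizer (K : Set X)) (hKq : IsQuasisimple ↥K) (hne : ⁅K, R⁆ ≠ ⊥) : K ≤ ⁅Y, R⁆ := by
  have hperf : ⁅K, K⁆ = K := Subgroup.isPerfect_iff.mp hKq.1
  by_contra hKA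
  set A := ⁅Y, R⁆ with hA
  have hAY : A ≤ Y := CfsgLib.commutator_le_of_le_normalizer hRY
  have hKA' : K ≤ Subgroup.normalizer (A : Set X) := hKY.trans (CfsgLib.left_le_normalizer_commutator R Y)
  have hAK : A ≤ Subgroup.normalizer (K : Set X) := hAY.trans hYK
  haveI : (A.subgroupOf K).Normal :=
    ⟨fun a ha g => (Subgroup.mem_normalizer_iff.mp (hKA' g.2) (a : X)).mp ha⟩
  rcases CfsgLib.quasisimple_normal_le_center_or_eq_top hKq (A.subgroupOf K) with h | h
  swap
  · exact hKA (Subgroup.subgroupOf_eq_top.mp h)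
  have hAKc : ⁅A, K⁆ = ⊥ := by
    refine perfect_centralizes hperf (bot_of_comm fun x hx k hk => ?_)
    have hxA : x ∈ A := CfsgLib.commutator_le_of_le_normalizer hKA' hx
    have hxK : x ∈ K := (Subgroup.commutator_comm A K ▸ CfsgLib.commutator_le_of_le_normalizer hAK :
      ⁅A, K⁆ ≤ K) hx
    exact (congrArg Subtype.val (Subgroup.mem_center_iff.mp (h (show (⟨x, hxK⟩ : K) ∈ A.subgroupOf K from hxA))
      ⟨k, hk⟩)).symm
  refine hne ?_
  have h1 : ⁅⁅K, R⁆, K⁆ = ⊥ := le_bot_iff.mp (hAKc ▸ Subgroup.commutator_mono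
    (Subgroup.commutator_mono hKY le_rfl) le_rfl)
  have h2 : ⁅⁅R, K⁆, K⁆ = ⊥ := by rwa [Subgroup.commutator_comm R K]
  have h3 := Subgroup.commutator_commutator_eq_bot_of_rotate (H₁ := K) (H₂ := K) (H₃ := R) h1 h2
  rwa [hperf] at h3

/-- A quasisimple group has no proper noncentral subgroup normalised by it. -/
theorem inf_le_center_or_le {K N : Subgroup X} (hKq : IsQuasisimple ↥K)
    (hKN : K ≤ Subgroup.normalizer (N : Set X)) : (∀ x ∈ K ⊓ N, ∀ k ∈ K, x * k = k * x) ∨ K ≤ N := by
  haveI : (N.subgroupOf K).Normal :=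
    ⟨fun a ha g => (Subgroup.mem_normalizer_iff.mp (hKN g.2) (a : X)).mp ha⟩
  rcases CfsgLib.quasisimple_normal_le_center_or_eq_top hKq (N.subgroupOf K) with h | h
  · exact Or.inl fun x hx k hk => (congrArg Subtype.val (Subgroup.mem_center_iff.mp
      (h (show (⟨x, (Subgroup.mem_inf.mp hx).1⟩ : K) ∈ N.subgroupOf K from (Subgroup.mem_inf.mp hx).2)) ⟨k, hk⟩)).symm
  · exact Or.inr (Subgroup.subgroupOf_eq_top.mp h)

/-- Fixed points of a coprime automorphism group of prime order being central forces solvability. -/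
theorem isSolvable_of_fixed_central {r : ℕ} [Fact r.Prime] {D R : Subgroup X} (hR : Nat.card R = r)
    (hcop : (Nat.card D).Coprime r) (hRD : R ≤ Subgroup.normalizer (D : Set X))
    (hcen : ⁅D ⊓ Subgroup.centralizer (R : Set X), D⁆ = ⊥) : Group.IsSolvable ↥D := by
  classical
  obtain ⟨σ, hσ⟩ : ∃ σ : R, σ ≠ 1 := by
    haveI : Nontrivial R := Finite.one_lt_card_iff_nontrivial.mp (hR ▸ (Fact.out : r.Prime).one_lt)
    exact exists_ne 1
  set φ : MulAut ↥D := D.normalizerMonoidHom ⟨σ, hRD σ.2⟩ with hφ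
  have hsolv : Group.IsSolvable R := by
    haveI : IsCyclic R := isCyclic_of_prime_card hR
    letI : CommGroup R := IsCyclic.commGroup
    exact Group.isSolvable_of_comm fun a b => mul_comm a b
  set Z := Subgroup.center ↥D with hZ
  have hfixZ : ∀ d : D, φ d = d → d ∈ Z := by
    intro d hd
    refine Subgroup.mem_center_iff.mpr fun y => Subtype.ext ?_
    have h1 : (d : X) ∈ D ⊓ Subgroup.centralizer (R : Set X) := by
      refine Subgroup.mem_inf.mpr ⟨d.2, Subgroup.mem_centralizer_iff.mpr fun a ha => ?_⟩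
      have hcom : (σ : X) * d = d * σ := by
        have h2 : (σ : X) * d * (σ : X)⁻¹ = d := congrArg Subtype.val hd
        exact mul_inv_eq_iff_eq_mul.mp h2
      obtain ⟨n, hn⟩ := mem_zpowers_of_prime_card hR hσ (g := σ) (g' := ⟨a, ha⟩)
      have h3 : a = (σ : X) ^ n := by
        have := congrArg Subtype.val hn
        simpa using this.symm
      rw [h3]
      exact (Commute.zpow_left (show Commute (σ : X) d from hcom) n).eq
    exact (comm_of_bot hcen h1 y.2).symm
  have hmapZ : Z.map φ.toMonoidHom = Z := Subgroup.characteristic_iff_map_eq.mp inferInstance φ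
  set ψ : MulAut (↥D ⧸ Z) := QuotientGroup.congr Z Z φ hmapZ with hψ
  have hψmk : ∀ d : D, ψ (QuotientGroup.mk d) = QuotientGroup.mk (φ d) := fun d => rfl
  -- no fixed points on the quotient
  have hfpf : MonoidHom.FixedPointFree ((ψ : ↥D ⧸ Z ≃* ↥D ⧸ Z) : ↥D ⧸ Z →* ↥D ⧸ Z) := by
    intro x hx
    obtain ⟨d, rfl⟩ := QuotientGroup.mk_surjective x
    have h1 : (QuotientGroup.mk (φ d) : ↥D ⧸ Z) = QuotientGroup.mk d := (hψmk d).symm.trans hx
    have hcopRD : (Nat.card R).Coprime (Nat.card D) := by rw [hR]; exact hcop.symm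
    have hZX : Z.map D.subtype ≤ D := Subgroup.map_subtype_le _
    have hRZ : R ≤ Subgroup.normalizer ((Z.map D.subtype : Subgroup X) : Set X) := by
      refine normalizer_of_maps ?_
      rintro g hg _ ⟨z, hz, rfl⟩
      refine ⟨D.normalizerMonoidHom ⟨g, hRD hg⟩ z, ?_, rfl⟩
      exact (Subgroup.characteristic_iff_map_eq.mp (inferInstance : Z.Characteristic)
        (D.normalizerMonoidHom ⟨g, hRD hg⟩)) ▸ ⟨z, hz, rfl⟩
    have hDZ : D ≤ Subgroup.normalizer ((Z.map D.subtype : Subgroup X) : Set X) := by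
      refine normalizer_of_maps ?_
      rintro g hg _ ⟨z, hz, rfl⟩
      exact ⟨z, hz, by
        have := congrArg Subtype.val (Subgroup.mem_center_iff.mp hz ⟨g, hg⟩)
        simp only [Subgroup.coe_mul] at this
        show (z : X) = g * (z : X) * g⁻¹
        rw [this, mul_inv_cancel_right]⟩
    have hzσ : (σ : X) * d * (σ : X)⁻¹ * (d : X)⁻¹ ∈ Z.map D.subtype := by
      have h2 := QuotientGroup.eq.mp h1.symm
      refine ⟨φ d * d⁻¹, ?_, rfl⟩
      have h3 := (inferInstance : Z.Normal).conj_mem _ h2 d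
      show φ d * d⁻¹ ∈ Z
      rwa [mul_inv_cancel_left] at h3
    obtain ⟨c, hc, hcd⟩ := CfsgLib.coprime_fixed_quotient (A := R) (K := D) (N := Z.map D.subtype) hRD hcopRD
      (Or.inl hsolv) hZX hDZ hRZ d.2 (fun a ha => by
        have hstep : ∀ a' : X, a' ∈ R → (a' * d * a'⁻¹ * (d : X)⁻¹ ∈ Z.map D.subtype) →
            (σ : X) * a' * d * ((σ : X) * a')⁻¹ * (d : X)⁻¹ ∈ Z.map D.subtype := by
          intro a' _ h
          have h4 := (Subgroup.mem_normalizer_iff.mp (hRZ σ.2) _).mp h
          have h5 := Subgroup.mul_mem _ h4 hzσ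
          convert h5 using 1
          group
        have hpow : ∀ n : ℕ, (σ : X) ^ n * d * ((σ : X) ^ n)⁻¹ * (d : X)⁻¹ ∈ Z.map D.subtype := by
          intro n
          induction n with
          | zero => simp
          | succ n ih => rw [pow_succ']; exact hstep _ (R.pow_mem σ.2 n) ih
        obtain ⟨n, hn⟩ := mem_powers_iff_mem_zpowers.mpr
          (mem_zpowers_of_prime_card hR hσ (g := σ) (g' := ⟨a, ha⟩))
        have h6 : a = (σ : X) ^ n := by
          have := congrArg Subtype.val hn
          simpa using this.symm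
        rw [h6]; exact hpow n)
    have hcZ : (⟨c, (Subgroup.mem_inf.mp hc).1⟩ : D) ∈ Z := by
      refine Subgroup.mem_center_iff.mpr fun y => Subtype.ext ?_
      exact (comm_of_bot hcen hc y.2).symm
    refine (QuotientGroup.eq_one_iff d).mpr ?_
    obtain ⟨z, hz, hze⟩ := hcd
    have hd : d = (⟨c, (Subgroup.mem_inf.mp hc).1⟩ : D) * z⁻¹ := by
      refine Subtype.ext ?_
      push_cast
      rw [show (z : X) = (d : X)⁻¹ * c from hze]
      group
    rw [hd]
    exact Z.mul_mem hcZ (Z.inv_mem hz)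
  have hpow : ψ ^ r = 1 := by
    have h1 : φ ^ r = 1 := by
      rw [hφ, ← map_pow]
      have h2 : (⟨(σ : X), hRD σ.2⟩ : Subgroup.normalizer (D : Set X)) ^ r = 1 := by
        refine Subtype.ext ?_
        have h3 := pow_card_eq_one' (x := σ)
        rw [hR] at h3
        simpa using congrArg Subtype.val h3
      rw [h2, map_one]
    have hiter : ∀ (n : ℕ) (d : D), (ψ ^ n) (QuotientGroup.mk d) = QuotientGroup.mk ((φ ^ n) d) := by
      intro n
      induction n with
      | zero => intro d; rfl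
      | succ n ih => intro d; rw [pow_succ, MulAut.mul_apply, hψmk, ih, pow_succ, MulAut.mul_apply]
    refine MulEquiv.ext fun x => ?_
    obtain ⟨d, rfl⟩ := QuotientGroup.mk_surjective x
    rw [hiter, h1]; rfl
  have hnilQ : Group.IsNilpotent (↥D ⧸ Z) := by
    by_cases h1 : ψ = 1
    · haveI : Subsingleton (↥D ⧸ Z) := ⟨fun a b => by
        rw [hfpf a (by rw [h1]; rfl), hfpf b (by rw [h1]; rfl)]⟩
      exact Group.isNilpotent_of_subsingleton
    · exact CfsgLib.Frob.isNilpotent_of_fpf_prime ψ hfpf (Fact.out : r.Prime) (orderOf_eq_prime hpow h1)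
  exact (Group.isSolvable_iff_subgroup_quotient Z).mpr
    ⟨Group.isSolvable_of_comm fun a b => Subtype.ext (Subgroup.mem_center_iff.mp b.2 (a : D)), inferInstance⟩

end CfsgLib.Flavell1929
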