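import Cfsg.Agent.Lib.Flavell1929.Layer

/-!
The diagonal fixed points on an orbit of `r` components.
-/

set_option autoImplicit false
set_option linter.unusedSectionVars false
set_option linter.style.haveILetI false

namespace CfsgLib.Flavell1929

open Cfsg CfsgLib.Flavell1933
open scoped commutatorElement

universe u

variable {X : Type u} [Group X] [Finite X] {G R : Subgroup X} {r : ℕ}

/-- The product of the conjugates of `l` under the powers of `σ`. -/
def diag (σ : X) (r : ℕ) (l : X) : X := ((List.range r).map fun i => σ ^ i * l * (σ ^ i)⁻¹).prod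

theorem prod_shift (f : ℕ → X) (n : ℕ) :
    f 0 * ((List.range n).map fun i => f (i + 1)).prod = ((List.range n).map f).prod * f n := by
  induction n with
  | zero => simp
  | succ n ih =>
    rw [List.range_succ, List.map_append, List.map_append, List.prod_append, List.prod_append, ← mul_assoc, ih]
    simp

theorem conj_list_prod (σ : X) (f : ℕ → X) : ∀ l : List ℕ, σ * (l.map f).prod * σ⁻¹ =
    (l.map fun i => σ * f i * σ⁻¹).prod
  | [] => by simp
  | a :: l => by
    rw [List.map_cons, List.map_cons, List.prod_cons, List.prod_cons, ← conj_list_prod σ f l]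
    group

section

variable [Fact r.Prime] {σ : X} {L : Subgroup X} (hR : Nat.card R = r) (hnorm : R ≤ Subgroup.normalizer (G : Set X))
  (hσ : σ ∈ R) (hL : IsCompIn G L) (hσL : L.map (MulAut.conj σ).toMonoidHom ≠ L)

include hR hσ in
theorem sigma_pow : σ ^ r = 1 := by
  have h := pow_card_eq_one' (x := (⟨σ, hσ⟩ : R))
  rw [hR] at h
  exact congrArg Subtype.val h

include hR hσ hσL in
theorem conj_ne {i : ℕ} (hi : ¬ r ∣ i) : L.map (MulAut.conj (σ ^ i)).toMonoidHom ≠ L := fun h => by
  have hσ1 : σ ≠ 1 := fun h1 => hσL (by rw [h1, map_conj_one])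
  have hord : orderOf σ = r := orderOf_eq_prime (sigma_pow hR hσ) hσ1
  have h2 : σ ∈ Subgroup.zpowers (σ ^ i) := by
    have hcop : Nat.Coprime (orderOf σ) i := by
      rw [hord]; exact (Fact.out : r.Prime).coprime_iff_not_dvd.mpr hi
    obtain ⟨m, hm⟩ := exists_pow_eq_self_of_coprime (x := σ) hcop.symm
    exact ⟨(m : ℤ), by simpa using hm⟩
  exact hσL (map_of_mem_normalizer (Subgroup.zpowers_le.mpr (mem_normalizer_of_map h) h2))

include hR hnorm hσ hL in
theorem isComp_pow (i : ℕ) : IsCompIn G (L.map (MulAut.conj (σ ^ i)).toMonoidHom) :=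
  hL.conj (hnorm (R.pow_mem hσ i))

include hR hnorm hσ hL hσL in
theorem diag_spec {l : X} (hl : l ∈ L) :
    diag σ r l ∈ layerIn G ∧ σ * diag σ r l * σ⁻¹ = diag σ r l ∧ l⁻¹ * diag σ r l ∈ nn G L ∧
      ∀ M, IsCompIn G M → (∀ i < r, L.map (MulAut.conj (σ ^ i)).toMonoidHom ≠ M) → diag σ r l ∈ nn G M := by
  set f : ℕ → X := fun i => σ ^ i * l * (σ ^ i)⁻¹ with hf
  have hmem : ∀ i, f i ∈ L.map (MulAut.conj (σ ^ i)).toMonoidHom := fun i => ⟨l, hl, rfl⟩
  have hE : ∀ i, f i ∈ layerIn G := fun i => le_layerIn (isComp_pow hR hnorm hσ hL i) (hmem i)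
  have hcent : ∀ M, IsCompIn G M → ∀ i, L.map (MulAut.conj (σ ^ i)).toMonoidHom ≠ M → f i ∈ nn G M := by
    intro M hM i hne
    exact Subgroup.mem_inf.mpr ⟨hE i, Subgroup.commutator_eq_bot_iff_le_centralizer.mp
      (comp_comm (isComp_pow hR hnorm hσ hL i) hM hne) (hmem i)⟩
  have hdE : diag σ r l ∈ layerIn G := Subgroup.list_prod_mem _ fun x hx => by
    obtain ⟨i, -, rfl⟩ := List.mem_map.mp hx
    exact hE i
  obtain ⟨m, hm⟩ : ∃ m, r = m + 1 := ⟨r - 1, by have := (Fact.out : r.Prime).pos; omega⟩
  have hne : ∀ i < m, L.map (MulAut.conj (σ ^ (i + 1))).toMonoidHom ≠ L := fun i hi =>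
    conj_ne hR hσ hσL fun h => by
      have := Nat.le_of_dvd (Nat.succ_pos i) h
      omega
  have htail : ((List.range m).map fun i => f (i + 1)).prod ∈ nn G L := Subgroup.list_prod_mem _ fun x hx => by
    obtain ⟨i, hi, rfl⟩ := List.mem_map.mp hx
    exact hcent L hL (i + 1) (hne i (List.mem_range.mp hi))
  have hdiag : diag σ r l = l * ((List.range m).map fun i => f (i + 1)).prod := by
    rw [diag, hm, List.range_succ_eq_map, List.map_cons, List.prod_cons, List.map_map]
    simp [hf, Function.comp_def, Nat.succ_eq_add_one]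
  refine ⟨hdE, ?_, ?_, fun M hM hMne => ?_⟩
  · rw [diag, conj_list_prod]
    have hsucc : (fun i => σ * f i * σ⁻¹) = fun i => f (i + 1) := by
      funext i
      simp only [hf, pow_succ']
      group
    show ((List.range r).map fun i => σ * f i * σ⁻¹).prod = ((List.range r).map f).prod
    rw [hsucc]
    have h0 : f 0 = l := by simp [hf]
    have hr' : f r = l := by simp [hf, sigma_pow hR hσ]
    have h1 := prod_shift f r
    rw [h0, hr'] at h1
    have hcomm : Commute l ((List.range m).map fun i => f (i + 1)).prod :=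
      Subgroup.mem_centralizer_iff.mp (Subgroup.mem_inf.mp htail).2 l hl
    have h2 : ((List.range r).map f).prod = l * ((List.range m).map fun i => f (i + 1)).prod := hdiag
    have h3 : ((List.range r).map f).prod * l = l * ((List.range r).map f).prod := by
      rw [h2, mul_assoc, hcomm.eq]
    rw [h3] at h1
    exact mul_left_cancel h1
  · rw [hdiag, inv_mul_cancel_left]
    exact htail
  · exact Subgroup.list_prod_mem _ fun x hx => by
      obtain ⟨i, hi, rfl⟩ := List.mem_map.mp hx
      exact hcent M hM i (hMne i (List.mem_range.mp hi))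

end

end CfsgLib.Flavell1929
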