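import Cfsg.Agent.Lib.Flavell1929.Basic

/-!
A quasisimple subgroup `K ≤ E(G)` whose conjugates under `R` and under the fixed points of `R` are equal to it
or commute with it: `K` is a component, or lies in an `R`-invariant component, or is centralised by `R`.
-/

set_option autoImplicit false
set_option linter.unusedSectionVars false
set_option linter.style.haveILetI false

namespace CfsgLib.Flavell1929

open Cfsg CfsgLib.Flavell1933
open scoped commutatorElement

universe u

variable {X : Type u} [Group X] [Finite X] {G R K : Subgroup X} {r : ℕ}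

/-- The hypotheses. -/
structure Data (G R K : Subgroup X) (r : ℕ) : Prop where
  hr : r.Prime
  hR : Nat.card R = r
  hcop : (Nat.card G).Coprime r
  hnorm : R ≤ Subgroup.normalizer (G : Set X)
  hKq : IsQuasisimple ↥K
  hKE : K ≤ layerIn G
  hdich : ∀ g, (g ∈ R ∨ g ∈ G ⊓ Subgroup.centralizer (R : Set X)) →
    K.map (MulAut.conj g).toMonoidHom = K ∨ ⁅K, K.map (MulAut.conj g).toMonoidHom⁆ = ⊥

theorem Data.perfect (hd : Data G R K r) : ⁅K, K⁆ = K := Subgroup.isPerfect_iff.mp hd.hKq.1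

theorem comp_comm {L M : Subgroup X} (hL : IsCompIn G L) (hM : IsCompIn G M) (h : L ≠ M) : ⁅L, M⁆ = ⊥ := by
  obtain ⟨L', hL', rfl⟩ := hL
  obtain ⟨M', hM', rfl⟩ := hM
  have hc := (CfsgLib.components_eq_or_commute hL' hM').resolve_left fun e => h (by rw [e])
  rw [← Subgroup.map_commutator, hc, Subgroup.map_bot]

/-- The elements of `E(G)` centralising a component. -/
def nn (G M : Subgroup X) : Subgroup X := layerIn G ⊓ Subgroup.centralizer (M : Set X)

theorem normalizes_nn {M : Subgroup X} (hM : IsCompIn G M) : layerIn G ≤ Subgroup.normalizer (nn G M : Set X) :=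
  (le_inf Subgroup.le_normalizer (centralizer_conj (layerIn_normalizes_comp hM))).trans
    Subgroup.inf_normalizer_le_normalizer_inf

theorem le_sup_nn {L : Subgroup X} (hL : IsCompIn G L) : layerIn G ≤ L ⊔ nn G L := by
  refine layerIn_le_of_forall fun M hM => ?_
  rcases eq_or_ne M L with rfl | h
  · exact le_sup_left
  · exact le_trans (le_inf (le_layerIn hM) (Subgroup.commutator_eq_bot_iff_le_centralizer.mp (comp_comm hM hL h)))
      le_sup_right

theorem exists_mul_nn {L : Subgroup X} (hL : IsCompIn G L) {x : X} (hx : x ∈ layerIn G) :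
    ∃ l ∈ L, ∃ n ∈ nn G L, x = l * n := by
  have hx' : x ∈ nn G L ⊔ L := by rw [sup_comm]; exact le_sup_nn hL hx
  obtain ⟨n, hn, l, hl, rfl⟩ := CfsgLib.mem_sup_of_le_normalizer ((le_layerIn hL).trans (normalizes_nn hL)) hx'
  have hc := Subgroup.mem_centralizer_iff.mp (Subgroup.mem_inf.mp hn).2 l hl
  exact ⟨l, hl, n, hn, hc.symm⟩

/-- A perfect subgroup of `E(G)` centralising all components but `L` lies in `L`. -/
theorem le_component {A L : Subgroup X} (hA : A ≤ layerIn G) (hperf : ⁅A, A⁆ = A) (hL : IsCompIn G L)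
    (h : ∀ M, IsCompIn G M → M ≠ L → ⁅A, M⁆ = ⊥) : A ≤ L := by
  have hcov : A ≤ L ⊔ layerIn G ⊓ Subgroup.centralizer (layerIn G : Set X) := by
    intro a ha
    obtain ⟨l, hl, n, hn, rfl⟩ := exists_mul_nn hL (hA ha)
    refine Subgroup.mul_mem_sup hl (Subgroup.mem_inf.mpr ⟨(Subgroup.mem_inf.mp hn).1, ?_⟩)
    have hle : layerIn G ≤ Subgroup.centralizer ({n} : Set X) := layerIn_le_of_forall fun M hM m hm => by
      rw [Subgroup.mem_centralizer_singleton_iff]
      rcases eq_or_ne M L with rfl | hne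
      · exact Subgroup.mem_centralizer_iff.mp (Subgroup.mem_inf.mp hn).2 m hm
      · have h1 := comm_of_bot (h M hM hne) ha hm
        have h2 : Commute l m := comm_of_bot (comp_comm hL hM hne.symm) hl hm
        have h3 : Commute (l⁻¹ * (l * n)) m := (h2.inv_left).mul_left h1
        rw [inv_mul_cancel_left] at h3
        exact h3.eq.symm
    exact Subgroup.mem_centralizer_iff.mpr fun m hm => Subgroup.mem_centralizer_singleton_iff.mp (hle hm)
  have hn : layerIn G ⊓ Subgroup.centralizer (layerIn G : Set X) ≤ Subgroup.normalizer (L : Set X) :=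
    inf_le_left.trans (layerIn_normalizes_comp hL)
  calc A = ⁅A, A⁆ := hperf.symm
    _ ≤ _ := Subgroup.commutator_mono hcov hcov
    _ ≤ L ⊔ ⁅layerIn G ⊓ Subgroup.centralizer (layerIn G : Set X),
        layerIn G ⊓ Subgroup.centralizer (layerIn G : Set X)⁆ := commutator_sup_sup_le hn hn
    _ ≤ L := sup_le le_rfl (le_of_eq (le_bot_iff.mp
        ((Subgroup.commutator_mono inf_le_right inf_le_left).trans
          (Subgroup.commutator_eq_bot_iff_le_centralizer.mpr le_rfl).le)) |>.trans bot_le)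

variable (hd : Data G R K r)
include hd

theorem Data.not_le_centralizer_all : ∃ L, IsCompIn G L ∧ ¬ K ≤ Subgroup.centralizer (L : Set X) := by
  by_contra h
  push Not at h
  have hle : K ≤ Subgroup.centralizer (layerIn G : Set X) := by
    rw [Subgroup.le_centralizer_iff]
    exact layerIn_le_of_forall fun L hL => Subgroup.le_centralizer_iff.mp (h L hL)
  have h1 : ⁅K, K⁆ = ⊥ := le_bot_iff.mp ((Subgroup.commutator_mono hle hd.hKE).trans
    (Subgroup.commutator_eq_bot_iff_le_centralizer.mpr le_rfl).le)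
  rw [hd.perfect] at h1
  subst h1
  exact not_nontrivial (⊥ : Subgroup X) (CfsgLib.isQuasisimple_nontrivial hd.hKq)

/-- An element normalising `K` and centralising a component moved by `K` centralises `K`. -/
theorem Data.centralizes_of_normalizes {M Y : Subgroup X} (hM : IsCompIn G M)
    (hMK : ¬ K ≤ Subgroup.centralizer (M : Set X)) (hYK : Y ≤ Subgroup.normalizer (K : Set X))
    (hY : Y ≤ nn G M) : ⁅Y, K⁆ = ⊥ := by
  refine perfect_centralizes hd.perfect (bot_of_comm fun x hx k hk => ?_)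
  have h1 : x ∈ K := (Subgroup.commutator_comm Y K ▸ CfsgLib.commutator_le_of_le_normalizer hYK : ⁅Y, K⁆ ≤ K) hx
  have h2 : x ∈ nn G M := ((Subgroup.commutator_mono hY le_rfl).trans
    (CfsgLib.commutator_le_of_le_normalizer (hd.hKE.trans (normalizes_nn hM)))) hx
  rcases inf_le_center_or_le hd.hKq (hd.hKE.trans (normalizes_nn hM)) with h | h
  · exact h x (Subgroup.mem_inf.mpr ⟨h1, h2⟩) k hk
  · exact absurd (h.trans inf_le_right) hMK

/-- A conjugate congruent to `K` modulo the centraliser of a component moved by `K` is `K`. -/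
theorem Data.conj_eq {M : Subgroup X} (hM : IsCompIn G M) (hMK : ¬ K ≤ Subgroup.centralizer (M : Set X)) {d : X}
    (hdich : K.map (MulAut.conj d).toMonoidHom = K ∨ ⁅K, K.map (MulAut.conj d).toMonoidHom⁆ = ⊥)
    (hcong : ∀ k ∈ K, ∃ k0 ∈ K, d * k0 * d⁻¹ * k⁻¹ ∈ nn G M) : K.map (MulAut.conj d).toMonoidHom = K := by
  refine hdich.resolve_right fun hc => hMK ?_
  rw [← hd.perfect]
  refine le_trans (Subgroup.commutator_le.2 fun k' hk' k hk => ?_) (inf_le_right : nn G M ≤ _)
  obtain ⟨k0, hk0, hn⟩ := hcong k hk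
  set n := d * k0 * d⁻¹ * k⁻¹ with hndef
  have hcom : k' * (n * k) = n * k * k' := by
    rw [show n * k = d * k0 * d⁻¹ by rw [hndef, inv_mul_cancel_right]]
    exact comm_of_bot hc hk' ⟨k0, hk0, rfl⟩
  have h2 : k' * k * k'⁻¹ * k⁻¹ = k' * n⁻¹ * k'⁻¹ * n := by
    calc k' * k * k'⁻¹ * k⁻¹ = k' * n⁻¹ * k'⁻¹ * (k' * (n * k)) * k'⁻¹ * k⁻¹ := by group
      _ = k' * n⁻¹ * k'⁻¹ * (n * k * k') * k'⁻¹ * k⁻¹ := by rw [hcom]
      _ = k' * n⁻¹ * k'⁻¹ * n := by group
  rw [commutatorElement_def, h2]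
  exact (nn G M).mul_mem ((Subgroup.mem_normalizer_iff.mp (normalizes_nn hM (hd.hKE hk')) _).mp
    ((nn G M).inv_mem hn)) hn

/-- An element of `E(G)` centralising a component moved by `K`, with admissible conjugate, centralises `K`. -/
theorem Data.centralizes_of_centralizing {M : Subgroup X} (hM : IsCompIn G M)
    (hMK : ¬ K ≤ Subgroup.centralizer (M : Set X)) {d : X} (hdM : d ∈ nn G M)
    (hdR : d ∈ Subgroup.centralizer (R : Set X)) : ∀ k ∈ K, d * k = k * d := by
  have hdG : d ∈ G := layerIn_le G (Subgroup.mem_inf.mp hdM).1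
  have heq := hd.conj_eq hM hMK (hd.hdich d (Or.inr (Subgroup.mem_inf.mpr ⟨hdG, hdR⟩))) fun k hk =>
    ⟨k, hk, by
      have h1 := (Subgroup.mem_normalizer_iff.mp (normalizes_nn hM (hd.hKE hk)) _).mp ((nn G M).inv_mem hdM)
      have h2 := (nn G M).mul_mem hdM h1
      convert h2 using 1
      group⟩
  have h := hd.centralizes_of_normalizes (Y := Subgroup.zpowers d) hM hMK
    (Subgroup.zpowers_le.mpr (mem_normalizer_of_map heq)) (Subgroup.zpowers_le.mpr hdM)
  exact fun k hk => comm_of_bot h (Subgroup.mem_zpowers d) hk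

/-- If the fixed points cover a component `L` moved by `K`, they normalise `K`, and `K` covers `L`. -/
theorem Data.surj {L : Subgroup X} (hL : IsCompIn G L) (hLK : ¬ K ≤ Subgroup.centralizer (L : Set X))
    (hcov : L ≤ (layerIn G ⊓ Subgroup.centralizer (R : Set X)) ⊔ nn G L) :
    layerIn G ⊓ Subgroup.centralizer (R : Set X) ≤ Subgroup.normalizer (K : Set X) ∧ L ≤ K ⊔ nn G L := by
  set Dg := layerIn G ⊓ Subgroup.centralizer (R : Set X) with hDg
  have hdDg : ∀ d ∈ Dg, K.map (MulAut.conj d).toMonoidHom = K ∨ ⁅K, K.map (MulAut.conj d).toMonoidHom⁆ = ⊥ :=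
    fun d hd' => hd.hdich d (Or.inr (Subgroup.mem_inf.mpr
      ⟨layerIn_le G (Subgroup.mem_inf.mp hd').1, (Subgroup.mem_inf.mp hd').2⟩))
  set Ss : Set (Subgroup X) := {A | ∃ d ∈ Dg, A = K.map (MulAut.conj d).toMonoidHom} with hSs
  set S := sSup Ss with hS
  have hKS : K ≤ S := le_sSup ⟨1, Dg.one_mem, (map_conj_one K).symm⟩
  have hSE : S ≤ layerIn G := sSup_le fun A ⟨d, hd', e⟩ => by
    rw [e]
    rintro _ ⟨k, hk, rfl⟩
    exact (layerIn G).mul_mem ((layerIn G).mul_mem (Subgroup.mem_inf.mp hd').1 (hd.hKE hk))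
      ((layerIn G).inv_mem (Subgroup.mem_inf.mp hd').1)
  have hSK : S ≤ Subgroup.normalizer (K : Set X) := by
    refine sSup_le fun A ⟨d, hd', e⟩ => ?_
    rw [e]
    rcases hdDg d hd' with h | h
    · rw [h]; exact Subgroup.le_normalizer
    · rw [Subgroup.commutator_comm] at h
      exact (Subgroup.commutator_eq_bot_iff_le_centralizer.mp h).trans (normalizer_of_centralizer K)
  have hDS : Dg ≤ Subgroup.normalizer (S : Set X) := normalizer_of_maps fun g hg x hx =>
    map_sSup_le (S := Ss) (g := g) (fun A ⟨d, hd', e⟩ => ⟨g * d, Dg.mul_mem hg hd', by rw [e, map_conj_map]⟩) hx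
  set N := nn G L with hN
  have hDN : Dg ≤ Subgroup.normalizer ((S ⊔ N : Subgroup X) : Set X) :=
    (le_inf hDS (inf_le_left.trans (normalizes_nn hL))).trans
      (Subgroup.normalizer_inf_normalizer_le_normalizer_sup S N)
  have hLS : L ≤ S ⊔ N := by
    have hLn : L ≤ Subgroup.normalizer ((S ⊔ N : Subgroup X) : Set X) :=
      hcov.trans (sup_le hDN (le_sup_right.trans Subgroup.le_normalizer))
    refine (inf_le_center_or_le hL.quasisimple hLn).resolve_left fun h => hLK fun k hk => ?_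
    obtain ⟨l, hl, n, hn, e⟩ := exists_mul_nn hL (hd.hKE hk)
    have hlS : l ∈ S ⊔ N := by
      rw [show l = k * n⁻¹ by rw [e, mul_inv_cancel_right]]
      exact Subgroup.mul_mem _ (Subgroup.mem_sup_left (hKS hk)) (Subgroup.mem_sup_right (N.inv_mem hn))
    rw [e]
    refine Subgroup.mul_mem _ (Subgroup.mem_centralizer_iff.mpr fun y hy => ?_) (Subgroup.mem_inf.mp hn).2
    exact (h l (Subgroup.mem_inf.mpr ⟨hl, hlS⟩) y hy).symm
  have hnorm : Dg ≤ Subgroup.normalizer (K : Set X) := by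
    intro d hd'
    have hdS : d ∈ S ⊔ N := by
      have h1 := le_sup_nn hL (Subgroup.mem_inf.mp hd').1
      exact (sup_le hLS le_sup_right : L ⊔ N ≤ S ⊔ N) h1
    have hSN : S ≤ Subgroup.normalizer (N : Set X) := hSE.trans (normalizes_nn hL)
    rw [sup_comm] at hdS
    obtain ⟨n, hn, s, hs, rfl⟩ := CfsgLib.mem_sup_of_le_normalizer hSN hdS
    refine mem_normalizer_of_map (hd.conj_eq hL hLK (hdDg _ hd') fun k hk => ⟨s⁻¹ * k * s, ?_, ?_⟩)
    · simpa using (Subgroup.mem_normalizer_iff.mp (hSK (S.inv_mem hs)) k).mp hk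
    · have h1 := (Subgroup.mem_normalizer_iff.mp (normalizes_nn hL (hd.hKE hk)) _).mp (N.inv_mem hn)
      have h2 := N.mul_mem hn h1
      convert h2 using 1
      group
  refine ⟨hnorm, hLS.trans (sup_le (le_trans ?_ le_sup_left) le_sup_right)⟩
  exact sSup_le fun A ⟨d, hd', e⟩ => by rw [e, map_of_mem_normalizer (hnorm hd')]

/-- Elements of `E(G)` centralising `K` centralise a component covered by `K`. -/
theorem Data.centralizes_covered {M Y : Subgroup X} (hM : IsCompIn G M) (hMK : M ≤ K ⊔ nn G M)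
    (hY : Y ≤ layerIn G) (hYK : ⁅Y, K⁆ = ⊥) : ⁅Y, M⁆ = ⊥ := by
  refine perfect_centralizes hM.perfect (Subgroup.commutator_eq_bot_iff_le_centralizer.mpr ?_)
  refine le_trans (Subgroup.commutator_le.2 fun y hy m hm => ?_) (inf_le_right : nn G M ≤ _)
  have hm' := hMK hm
  rw [sup_comm] at hm'
  obtain ⟨n, hn, k, hk, rfl⟩ := CfsgLib.mem_sup_of_le_normalizer (hd.hKE.trans (normalizes_nn hM)) hm'
  have hyk : y * k * y⁻¹ = k := by rw [comm_of_bot hYK hy hk, mul_inv_cancel_right]
  rw [commutatorElement_def]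
  have h1 : y * (n * k) * y⁻¹ * (n * k)⁻¹ = y * n * y⁻¹ * n⁻¹ := by
    calc y * (n * k) * y⁻¹ * (n * k)⁻¹ = y * n * y⁻¹ * (y * k * y⁻¹) * k⁻¹ * n⁻¹ := by group
      _ = y * n * y⁻¹ * n⁻¹ := by rw [hyk]; group
  rw [h1]
  exact (nn G M).mul_mem ((Subgroup.mem_normalizer_iff.mp (normalizes_nn hM (hY hy)) n).mp hn)
    ((nn G M).inv_mem hn)

end CfsgLib.Flavell1929
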