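import Cfsg.Agent.Lib.Flavell1929.Diag

/-!
S1929: a quasisimple subgroup commuting with its distinct `R C_G(R)`-conjugates.
-/

set_option autoImplicit false
set_option linter.unusedSectionVars false
set_option linter.style.haveILetI false

namespace CfsgLib.Flavell1929

open Cfsg CfsgLib.Flavell1933
open scoped commutatorElement

universe u

variable {X : Type u} [Group X] [Finite X] {G R K : Subgroup X} {r : ℕ}

theorem isCompIn_of_subgroupOf {L : Subgroup X} (h : IsCompIn G L) : IsComponent (L.subgroupOf G) := by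
  obtain ⟨L', hL', rfl⟩ := h
  rwa [show (L'.map G.subtype).subgroupOf G = L' from Subgroup.comap_map_eq_self_of_injective G.subtype_injective L']

/-- The case of a moved component. -/
theorem Data.moved [Fact r.Prime] (hd : Data G R K r) {L : Subgroup X} (hL : IsCompIn G L)
    (hLK : ¬ K ≤ Subgroup.centralizer (L : Set X)) {σ : X} (hσ : σ ∈ R)
    (hσL : L.map (MulAut.conj σ).toMonoidHom ≠ L) : ⁅K, R⁆ = ⊥ ∨ K = L := by
  have hord : ∀ a ∈ R, ∃ i < r, a = σ ^ i := by
    intro a ha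
    have hσ1 : (⟨σ, hσ⟩ : R) ≠ 1 := fun h => hσL (by
      rw [show σ = 1 from congrArg Subtype.val h, map_conj_one])
    obtain ⟨n, hn⟩ := mem_powers_iff_mem_zpowers.mpr
      (mem_zpowers_of_prime_card hd.hR hσ1 (g' := ⟨a, ha⟩))
    refine ⟨n % r, Nat.mod_lt _ hd.hr.pos, ?_⟩
    have h1 : σ ^ n = a := congrArg Subtype.val hn
    have h2 := sigma_pow hd.hR hσ
    rw [← h1]
    conv_lhs => rw [← Nat.div_add_mod n r, pow_add, pow_mul, h2, one_pow, one_mul]
  have hfix : ∀ d : X, σ * d * σ⁻¹ = d → d ∈ Subgroup.centralizer (R : Set X) := by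
    intro d hd'
    refine Subgroup.mem_centralizer_iff.mpr fun a ha => ?_
    obtain ⟨i, -, rfl⟩ := hord a ha
    exact ((show Commute σ d from mul_inv_eq_iff_eq_mul.mp hd').pow_left i).eq
  have hdiag := fun (l : X) (hl : l ∈ L) => diag_spec hd.hR hd.hnorm hσ hL hσL hl
  set Dg := layerIn G ⊓ Subgroup.centralizer (R : Set X) with hDg
  have hdDg : ∀ l ∈ L, diag σ r l ∈ Dg := fun l hl =>
    Subgroup.mem_inf.mpr ⟨(hdiag l hl).1, hfix _ (hdiag l hl).2.1⟩
  have hcov : L ≤ Dg ⊔ nn G L := fun l hl => by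
    rw [show l = diag σ r l * (l⁻¹ * diag σ r l)⁻¹ by group]
    exact Subgroup.mul_mem_sup (hdDg l hl) ((nn G L).inv_mem (hdiag l hl).2.2.1)
  obtain ⟨hnormK, hLKn⟩ := hd.surj hL hLK hcov
  -- outside the orbit `K` centralises
  have houtside : ∀ M, IsCompIn G M → (∀ i < r, L.map (MulAut.conj (σ ^ i)).toMonoidHom ≠ M) →
      K ≤ Subgroup.centralizer (M : Set X) := by
    intro M hM hMne
    by_contra hMK
    refine hLK (Subgroup.commutator_eq_bot_iff_le_centralizer.mp ?_)
    refine perfect_centralizes hL.perfect (Subgroup.commutator_eq_bot_iff_le_centralizer.mpr ?_)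
    refine le_trans (Subgroup.commutator_le.2 fun k hk l hl => ?_) (inf_le_right : nn G L ≤ _)
    have hkd := hd.centralizes_of_centralizing hM hMK ((hdiag l hl).2.2.2 M hM hMne)
      (hfix _ (hdiag l hl).2.1) k hk
    set d := diag σ r l with hddef
    have hnn : l⁻¹ * d ∈ nn G L := (hdiag l hl).2.2.1
    rw [commutatorElement_def]
    have h1 : k * l * k⁻¹ * l⁻¹ = d * (k * (l⁻¹ * d)⁻¹ * k⁻¹ * (l⁻¹ * d)) * d⁻¹ := by
      calc k * l * k⁻¹ * l⁻¹ = (k * d) * ((l⁻¹ * d)⁻¹ * k⁻¹ * (l⁻¹ * d)) * d⁻¹ := by group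
        _ = (d * k) * ((l⁻¹ * d)⁻¹ * k⁻¹ * (l⁻¹ * d)) * d⁻¹ := by rw [hkd]
        _ = d * (k * (l⁻¹ * d)⁻¹ * k⁻¹ * (l⁻¹ * d)) * d⁻¹ := by group
    rw [h1]
    refine (Subgroup.mem_normalizer_iff.mp (normalizes_nn hL (hdiag l hl).1) _).mp ?_
    exact (nn G L).mul_mem ((Subgroup.mem_normalizer_iff.mp (normalizes_nn hL (hd.hKE hk)) _).mp
      ((nn G L).inv_mem hnn)) hnn
  by_cases hone : ∀ M, IsCompIn G M → M ≠ L → ⁅K, M⁆ = ⊥
  · right
    have hKL : K ≤ L := le_component hd.hKE hd.perfect hL hone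
    refine le_antisymm hKL ?_
    set Z := L ⊓ Subgroup.centralizer (L : Set X) with hZ
    have hcov' : L ≤ K ⊔ Z := by
      intro l hl
      have hl' := hLKn hl
      rw [sup_comm] at hl'
      obtain ⟨n, hn, k, hk, e⟩ := CfsgLib.mem_sup_of_le_normalizer (hd.hKE.trans (normalizes_nn hL)) hl'
      have hnL : n ∈ L := by
        rw [show n = l * k⁻¹ by rw [← e, mul_inv_cancel_right]]
        exact L.mul_mem hl (L.inv_mem (hKL hk))
      rw [← e, sup_comm]
      exact Subgroup.mul_mem_sup (Subgroup.mem_inf.mpr ⟨hnL, (Subgroup.mem_inf.mp hn).2⟩) hk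
    have hZK : Z ≤ Subgroup.normalizer (K : Set X) :=
      inf_le_right.trans ((Subgroup.centralizer_le hKL).trans (normalizer_of_centralizer K))
    calc L = ⁅L, L⁆ := hL.perfect.symm
      _ ≤ _ := Subgroup.commutator_mono hcov' hcov'
      _ ≤ K ⊔ ⁅Z, Z⁆ := commutator_sup_sup_le hZK hZK
      _ ≤ K := sup_le le_rfl ((le_of_eq (le_bot_iff.mp ((Subgroup.commutator_mono inf_le_right inf_le_left).trans
          (Subgroup.commutator_eq_bot_iff_le_centralizer.mpr le_rfl).le))).trans bot_le)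
  left
  push Not at hone
  obtain ⟨M, hM, hML, hMK'⟩ := hone
  have hMK : ¬ K ≤ Subgroup.centralizer (M : Set X) := fun h =>
    hMK' (Subgroup.commutator_eq_bot_iff_le_centralizer.mpr h)
  have hcovered : ∀ i, ¬ K ≤ Subgroup.centralizer ((L.map (MulAut.conj (σ ^ i)).toMonoidHom : Subgroup X) : Set X) →
      L.map (MulAut.conj (σ ^ i)).toMonoidHom ≤ K ⊔ nn G (L.map (MulAut.conj (σ ^ i)).toMonoidHom) := by
    intro i hi
    have hσi : (L.map (MulAut.conj (σ ^ i)).toMonoidHom).map (MulAut.conj σ).toMonoidHom ≠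
        L.map (MulAut.conj (σ ^ i)).toMonoidHom := fun h => hσL (by
      rw [map_conj_map, ← pow_succ', pow_succ, ← map_conj_map] at h
      exact Subgroup.map_injective (MulAut.conj (σ ^ i)).injective h)
    have hLi := isComp_pow hd.hR hd.hnorm hσ hL i
    refine (hd.surj hLi hi fun l hl => ?_).2
    obtain ⟨h1, h2, h3, -⟩ := diag_spec hd.hR hd.hnorm hσ hLi hσi hl
    rw [show l = diag σ r l * (l⁻¹ * diag σ r l)⁻¹ by group]
    exact Subgroup.mul_mem_sup (Subgroup.mem_inf.mpr ⟨h1, hfix _ h2⟩) ((nn G _).inv_mem h3)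
  obtain ⟨i, hi, rfl⟩ : ∃ i < r, L.map (MulAut.conj (σ ^ i)).toMonoidHom = M := by
    by_contra hno
    push Not at hno
    exact hMK (houtside M hM hno)
  -- `σ ^ i` normalises `K`, so `R` does
  set g := σ ^ i with hg
  have hgR : g ∈ R := R.pow_mem hσ i
  have hgK : g ∈ Subgroup.normalizer (K : Set X) := by
    refine mem_normalizer_of_map ((hd.hdich g (Or.inl hgR)).resolve_right fun hc => ?_)
    set K' := K.map (MulAut.conj g).toMonoidHom with hK'
    set M := L.map (MulAut.conj g).toMonoidHom with hMdef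
    have hK'E : K' ≤ layerIn G := by
      rintro _ ⟨k, hk, rfl⟩
      exact (Subgroup.mem_normalizer_iff.mp (normalizer_le_layerIn G (hd.hnorm hgR)) k).mp (hd.hKE hk)
    have hM1 : M ≤ K' ⊔ nn G M := by
      have h1 : M ≤ (K ⊔ nn G L).map (MulAut.conj g).toMonoidHom := Subgroup.map_mono hLKn
      rw [Subgroup.map_sup] at h1
      refine h1.trans (sup_le_sup_left ?_ _)
      rintro _ ⟨n, hn, rfl⟩
      refine Subgroup.mem_inf.mpr ⟨(Subgroup.mem_normalizer_iff.mp
        (normalizer_le_layerIn G (hd.hnorm hgR)) n).mp (Subgroup.mem_inf.mp hn).1, Subgroup.mem_centralizer_iff.mpr ?_⟩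
      rintro _ ⟨l, hl, rfl⟩
      have h2 := Subgroup.mem_centralizer_iff.mp (Subgroup.mem_inf.mp hn).2 l hl
      show g * l * g⁻¹ * (g * n * g⁻¹) = g * n * g⁻¹ * (g * l * g⁻¹)
      calc g * l * g⁻¹ * (g * n * g⁻¹) = g * (l * n) * g⁻¹ := by group
        _ = g * (n * l) * g⁻¹ := by rw [h2]
        _ = g * n * g⁻¹ * (g * l * g⁻¹) := by group
    have h3 : M ≤ Subgroup.centralizer (M : Set X) := by
      refine le_trans ?_ (inf_le_right : nn G M ≤ _)
      calc M = ⁅M, M⁆ := hM.perfect.symm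
        _ ≤ ⁅nn G M ⊔ K', nn G M ⊔ K⁆ := Subgroup.commutator_mono (by rwa [sup_comm])
            (by rw [sup_comm]; exact hcovered i hMK)
        _ ≤ nn G M ⊔ ⁅K', K⁆ := commutator_sup_sup_le (hK'E.trans (normalizes_nn hM)) (hd.hKE.trans (normalizes_nn hM))
        _ = nn G M := by rw [Subgroup.commutator_comm, hc, sup_bot_eq]
    have h4 : ⁅M, M⁆ = ⊥ := Subgroup.commutator_eq_bot_iff_le_centralizer.mpr h3
    rw [hM.perfect] at h4
    exact hM.ne_bot h4
  have hRK : R ≤ Subgroup.normalizer (K : Set X) := by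
    intro a ha
    have hg1 : (⟨g, hgR⟩ : R) ≠ 1 := fun h => hML (by
      rw [show g = 1 from congrArg Subtype.val h, map_conj_one])
    haveI := Fact.mk hd.hr
    obtain ⟨n, hn⟩ := mem_zpowers_of_prime_card hd.hR hg1 (g' := ⟨a, ha⟩)
    have h1 : g ^ n = a := by simpa using congrArg Subtype.val hn
    exact h1 ▸ Subgroup.zpow_mem _ hgK n
  have hallΛ : ∀ j, ¬ K ≤ Subgroup.centralizer ((L.map (MulAut.conj (σ ^ j)).toMonoidHom : Subgroup X) : Set X) := by
    intro j h
    refine hLK fun k hk => Subgroup.mem_centralizer_iff.mpr fun l hl => ?_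
    have hk' : σ ^ j * k * (σ ^ j)⁻¹ ∈ K := (Subgroup.mem_normalizer_iff.mp (hRK (R.pow_mem hσ j)) k).mp hk
    have h1 := Subgroup.mem_centralizer_iff.mp (h hk') (σ ^ j * l * (σ ^ j)⁻¹) ⟨l, hl, rfl⟩
    calc l * k = (σ ^ j)⁻¹ * ((σ ^ j * l * (σ ^ j)⁻¹) * (σ ^ j * k * (σ ^ j)⁻¹)) * σ ^ j := by group
      _ = (σ ^ j)⁻¹ * ((σ ^ j * k * (σ ^ j)⁻¹) * (σ ^ j * l * (σ ^ j)⁻¹)) * σ ^ j := by rw [h1]
      _ = k * l := by group
  -- `K` is congruent to the diagonal
  set Z0 := layerIn G ⊓ Subgroup.centralizer (layerIn G : Set X) with hZ0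
  have hKR : ⁅K, R⁆ ≤ Z0 := by
    rw [Subgroup.commutator_le]
    intro k hk a ha
    obtain ⟨l, hl, n, hn, e⟩ := exists_mul_nn hL (hd.hKE hk)
    set d := diag σ r l with hddef
    set x := d * k⁻¹ with hx
    have hxE : x ∈ layerIn G := (layerIn G).mul_mem (hdiag l hl).1 ((layerIn G).inv_mem (hd.hKE hk))
    have hxN : x ∈ nn G L := by
      have h1 := (Subgroup.mem_normalizer_iff.mp (normalizes_nn hL (le_layerIn hL hl)) _).mp
        ((nn G L).mul_mem (hdiag l hl).2.2.1 ((nn G L).inv_mem hn))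
      convert h1 using 1
      rw [hx, hddef, e]
      group
    have hxK : ⁅Subgroup.zpowers x, K⁆ = ⊥ := hd.centralizes_of_normalizes hL hLK
      (Subgroup.zpowers_le.mpr (Subgroup.mul_mem _ (hnormK (hdDg l hl)) (Subgroup.inv_mem _ (Subgroup.le_normalizer hk))))
      (Subgroup.zpowers_le.mpr hxN)
    have hxZ : x ∈ Z0 := by
      refine Subgroup.mem_inf.mpr ⟨hxE, ?_⟩
      have hle : layerIn G ≤ Subgroup.centralizer ({x} : Set X) := layerIn_le_of_forall fun N hN => by
        intro m hm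
        rw [Subgroup.mem_centralizer_singleton_iff]
        by_cases hj : ∀ j < r, L.map (MulAut.conj (σ ^ j)).toMonoidHom ≠ N
        · have h1 : Commute m d := Subgroup.mem_centralizer_iff.mp
            (Subgroup.mem_inf.mp ((hdiag l hl).2.2.2 N hN hj)).2 m hm
          have h2 : Commute m k := Subgroup.mem_centralizer_iff.mp (houtside N hN hj hk) m hm
          exact (h1.mul_right h2.inv_right).eq
        · push Not at hj
          obtain ⟨j, -, rfl⟩ := hj
          exact (comm_of_bot (hd.centralizes_covered hN (hcovered j (hallΛ j)) (Subgroup.zpowers_le.mpr hxE) hxK)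
            (Subgroup.mem_zpowers x) hm).symm
      exact Subgroup.mem_centralizer_iff.mpr fun m hm => Subgroup.mem_centralizer_singleton_iff.mp (hle hm)
    have hkx : k = x⁻¹ * d := by rw [hx]; group
    have haZ : a * x * a⁻¹ ∈ Z0 := by
      have hn1 := normalizer_le_layerIn G (hd.hnorm ha)
      exact (Subgroup.mem_normalizer_iff.mp
        (Subgroup.inf_normalizer_le_normalizer_inf (Subgroup.mem_inf.mpr
          ⟨hn1, centralizer_conj (R := Subgroup.normalizer (layerIn G : Set X)) le_rfl hn1⟩)) x).mp hxZ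
    have hda : Commute a d := Subgroup.mem_centralizer_iff.mp (Subgroup.mem_inf.mp (hdDg l hl)).2 a ha
    have hxd : Commute d x := Subgroup.mem_centralizer_iff.mp (Subgroup.mem_inf.mp hxZ).2 d (hdiag l hl).1
    rw [commutatorElement_def, hkx]
    have h1 : x⁻¹ * d * a * (x⁻¹ * d)⁻¹ * a⁻¹ = x⁻¹ * (a * x * a⁻¹) := by
      calc x⁻¹ * d * a * (x⁻¹ * d)⁻¹ * a⁻¹ = x⁻¹ * (d * a) * d⁻¹ * x * a⁻¹ := by group
        _ = x⁻¹ * (a * d) * d⁻¹ * x * a⁻¹ := by rw [hda.eq]
        _ = x⁻¹ * (a * x * a⁻¹) := by group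
    rw [h1]
    exact Z0.mul_mem (Z0.inv_mem hxZ) haZ
  have h1 : ⁅⁅K, R⁆, K⁆ = ⊥ := le_bot_iff.mp ((Subgroup.commutator_mono (hKR.trans inf_le_right) hd.hKE).trans
    (Subgroup.commutator_eq_bot_iff_le_centralizer.mpr le_rfl).le)
  have h2 : ⁅⁅R, K⁆, K⁆ = ⊥ := by rwa [Subgroup.commutator_comm R K]
  have h3 := Subgroup.commutator_commutator_eq_bot_of_rotate (H₁ := K) (H₂ := K) (H₃ := R) h1 h2
  rwa [hd.perfect] at h3

/-- All components moved by `K` fixed by `R`: there is only one. -/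
theorem Data.fixed_unique (hd : Data G R K r) {L M : Subgroup X} (hL : IsCompIn G L) (hM : IsCompIn G M)
    (hLK : ¬ K ≤ Subgroup.centralizer (L : Set X)) (hMK : ¬ K ≤ Subgroup.centralizer (M : Set X))
    (hLR : R ≤ Subgroup.normalizer (L : Set X)) : M = L := by
  by_contra hne
  haveI := Fact.mk hd.hr
  set C := L ⊓ Subgroup.centralizer (R : Set X) with hC
  set D := L ⊓ Subgroup.centralizer (C : Set X) with hD
  have hKC : ⁅C, K⁆ = ⊥ := bot_of_comm fun c hc k hk => hd.centralizes_of_centralizing hM hMK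
    (Subgroup.mem_inf.mpr ⟨le_layerIn hL (Subgroup.mem_inf.mp hc).1, Subgroup.commutator_eq_bot_iff_le_centralizer.mp
      (comp_comm hL hM fun e => hne e.symm) (Subgroup.mem_inf.mp hc).1⟩) (Subgroup.mem_inf.mp hc).2 k hk
  have hRC : R ≤ Subgroup.normalizer (C : Set X) :=
    (le_inf hLR ((centralizer_conj (R := R) Subgroup.le_normalizer))).trans Subgroup.inf_normalizer_le_normalizer_inf
  have hRD : R ≤ Subgroup.normalizer (D : Set X) :=
    (le_inf hLR (centralizer_conj hRC)).trans Subgroup.inf_normalizer_le_normalizer_inf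
  have hDG : D ≤ G := inf_le_left.trans hL.le
  have hsolv : Group.IsSolvable ↥D := isSolvable_of_fixed_central hd.hR
    (hd.hcop.coprime_dvd_left (Subgroup.card_dvd_of_le hDG)) hRD (bot_of_comm fun x hx y hy =>
      Subgroup.mem_centralizer_iff.mp (Subgroup.mem_inf.mp hy).2 x
        (Subgroup.mem_inf.mpr ⟨(Subgroup.mem_inf.mp (Subgroup.mem_inf.mp hx).1).1, (Subgroup.mem_inf.mp hx).2⟩))
  have hcov : K ≤ nn G L ⊔ D := by
    intro k hk
    obtain ⟨l, hl, n, hn, rfl⟩ := exists_mul_nn hL (hd.hKE hk)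
    rw [sup_comm]
    refine Subgroup.mul_mem_sup (Subgroup.mem_inf.mpr ⟨hl, Subgroup.mem_centralizer_iff.mpr fun c hc => ?_⟩) hn
    have h1 : Commute c (l * n) := comm_of_bot hKC hc hk
    have h2 : Commute c n := Subgroup.mem_centralizer_iff.mp (Subgroup.mem_inf.mp hn).2 c (Subgroup.mem_inf.mp hc).1
    have h3 := h1.mul_right h2.inv_right
    rw [mul_inv_cancel_right] at h3
    exact h3.eq
  have hDn : D ≤ Subgroup.normalizer (nn G L : Set X) :=
    inf_le_left.trans ((le_layerIn hL).trans (normalizes_nn hL))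
  obtain ⟨m, hm⟩ := (Group.isSolvable_def ↥D).mp hsolv
  have hall : ∀ j, K ≤ nn G L ⊔ (derivedSeries ↥D j).map D.subtype := by
    intro j
    induction j with
    | zero => rwa [derivedSeries_zero, ← MonoidHom.range_eq_map, Subgroup.range_subtype]
    | succ j ih =>
      rw [derivedSeries_succ, Subgroup.map_commutator, ← hd.perfect]
      exact (Subgroup.commutator_mono ih ih).trans (commutator_sup_sup_le
        ((Subgroup.map_subtype_le _).trans hDn) ((Subgroup.map_subtype_le _).trans hDn))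
  have h := hall m
  rw [hm, Subgroup.map_bot, sup_bot_eq] at h
  exact hLK (h.trans inf_le_right)

/-- The statement. -/
theorem trichotomy [Fact r.Prime] (hR : Nat.card R = r) (hcop : (Nat.card G).Coprime r)
    (hnorm : R ≤ Subgroup.normalizer (G : Set X)) (hKG : K ≤ G) (hKq : IsQuasisimple ↥K)
    (hcomm : ∀ g ∈ R ⊔ (G ⊓ Subgroup.centralizer (R : Set X)),
      K.map (MulAut.conj g).toMonoidHom ≠ K → ⁅K, K.map (MulAut.conj g).toMonoidHom⁆ = ⊥) :
    (K ≤ G ⊓ Subgroup.centralizer (R : Set X) ∧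
        IsComponent (K.subgroupOf (G ⊓ Subgroup.centralizer (R : Set X)))) ∨
      IsComponent (K.subgroupOf G) ∨ ∃ L : Subgroup X, L ≤ G ∧ IsComponent (L.subgroupOf G) ∧
        (∀ a ∈ R, L.map (MulAut.conj a).toMonoidHom = L) ∧ K ≤ L := by
  set C := G ⊓ Subgroup.centralizer (R : Set X) with hC
  set RC := R ⊔ C with hRC
  set Ss : Set (Subgroup X) := {A | ∃ g ∈ RC, A = K.map (MulAut.conj g).toMonoidHom} with hSs
  set H := sSup Ss with hH
  have hKH : K ≤ H := le_sSup ⟨1, RC.one_mem, (map_conj_one K).symm⟩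
  have hHn : RC ≤ Subgroup.normalizer (H : Set X) := normalizer_of_maps fun g hg x hx =>
    map_sSup_le (S := Ss) (g := g) (fun A ⟨d, hd, e⟩ => ⟨g * d, RC.mul_mem hg hd, by rw [e, map_conj_map]⟩) hx
  have hHA : ∀ A ∈ Ss, H ≤ Subgroup.normalizer (A : Set X) := by
    rintro A ⟨g, hg, rfl⟩
    refine sSup_le fun B ⟨d, hd, e⟩ => ?_
    rw [e]
    by_cases heq : K.map (MulAut.conj (g⁻¹ * d)).toMonoidHom = K
    · have h1 := congrArg (fun Y : Subgroup X => Y.map (MulAut.conj g).toMonoidHom) heq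
      simp only [map_conj_map, mul_inv_cancel_left] at h1
      rw [h1]
      exact Subgroup.le_normalizer
    · have h1 := congrArg (fun Y : Subgroup X => Y.map (MulAut.conj g).toMonoidHom)
        (hcomm _ (RC.mul_mem (RC.inv_mem hg) hd) heq)
      simp only [Subgroup.map_commutator, Subgroup.map_bot, map_conj_map, mul_inv_cancel_left] at h1
      rw [Subgroup.commutator_comm] at h1
      exact (Subgroup.commutator_eq_bot_iff_le_centralizer.mp h1).trans (normalizer_of_centralizer _)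
  have hq : ∀ A ∈ Ss, IsQuasisimple ↥A := by
    rintro A ⟨g, hg, rfl⟩
    exact CfsgLib.isQuasisimple_of_equiv (K.equivMapOfInjective _ (MulAut.conj g).injective) hKq
  by_cases hKR : ⁅K, R⁆ = ⊥
  · left
    have hKcR := Subgroup.commutator_eq_bot_iff_le_centralizer.mp hKR
    refine ⟨le_inf hKG hKcR, ?_⟩
    -- `K` is normal in the product of its conjugates under `C`
    set Sc : Set (Subgroup X) := {A | ∃ g ∈ C, A = K.map (MulAut.conj g).toMonoidHom} with hSc
    set H0 := sSup Sc with hH0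
    have hKH0 : K ≤ H0 := le_sSup ⟨1, C.one_mem, (map_conj_one K).symm⟩
    have hH0C : H0 ≤ C := sSup_le fun A ⟨g, hg, e⟩ => by
      rw [e]
      rintro _ ⟨k, hk, rfl⟩
      exact C.mul_mem (C.mul_mem hg (Subgroup.mem_inf.mpr ⟨hKG hk, hKcR hk⟩)) (C.inv_mem hg)
    have hCH0 : C ≤ Subgroup.normalizer (H0 : Set X) := normalizer_of_maps fun g hg x hx =>
      map_sSup_le (S := Sc) (g := g) (fun A ⟨d, hd, e⟩ => ⟨g * d, C.mul_mem hg hd, by rw [e, map_conj_map]⟩) hx
    have hH0K : H0 ≤ Subgroup.normalizer (K : Set X) := by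
      refine le_trans (sSup_le fun A ⟨g, hg, e⟩ => le_sSup ?_) (hHA K ⟨1, RC.one_mem, (map_conj_one K).symm⟩)
      exact ⟨g, Subgroup.mem_sup_right hg, e⟩
    refine ⟨?_, CfsgLib.isQuasisimple_of_equiv (Subgroup.subgroupOfEquivOfLe (le_inf hKG hKcR)).symm hKq⟩
    refine Subgroup.IsSubnormal.step _ (H0.subgroupOf C) (fun x hx => hKH0 hx)
      (Subgroup.Normal.isSubnormal ((Subgroup.normal_subgroupOf_iff_le_normalizer hH0C).mpr hCH0)) ?_
    refine ⟨fun a ha g => ?_⟩
    exact (Subgroup.mem_normalizer_iff.mp (hH0K g.2) ((a : C) : X)).mp ha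
  right
  have hHG : H ≤ G := sSup_le fun A ⟨g, hg, e⟩ => by
    rw [e]
    rintro _ ⟨k, hk, rfl⟩
    exact (Subgroup.mem_normalizer_iff.mp ((sup_le hnorm (inf_le_left.trans Subgroup.le_normalizer)) hg) k).mp (hKG hk)
  have hHinv : RC ≤ Subgroup.normalizer (H : Set X) := hHn
  have hRR : ∀ g ∈ RC, R.map (MulAut.conj g).toMonoidHom = R := fun g hg => by
    refine map_of_mem_normalizer ((sup_le Subgroup.le_normalizer ?_ : RC ≤ Subgroup.normalizer (R : Set X)) hg)
    exact inf_le_right.trans (normalizer_of_centralizer R)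
  have hHR : ⁅H, R⁆ = H := by
    refine le_antisymm (CfsgLib.commutator_le_of_le_normalizer (le_sup_left.trans hHn)) (sSup_le fun A hA => ?_)
    refine le_commutator_of_moved (le_sup_left.trans hHn) (le_sSup hA) (hHA A hA) (hq A hA) fun h => hKR ?_
    obtain ⟨g, hg, rfl⟩ := hA
    rw [← hRR g hg, ← Subgroup.map_commutator] at h
    exact (Subgroup.map_eq_bot_iff_of_injective _ (MulAut.conj g).injective).mp h
  have hlay := layer_le hR hcop hnorm hHG hHinv hHR
  have hKcomp : IsCompIn H K := by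
    refine ⟨K.subgroupOf H, ⟨?_, CfsgLib.isQuasisimple_of_equiv (Subgroup.subgroupOfEquivOfLe hKH).symm hKq⟩,
      Subgroup.map_subgroupOf_eq_of_le hKH⟩
    exact Subgroup.Normal.isSubnormal ((Subgroup.normal_subgroupOf_iff_le_normalizer hKH).mpr
      (hHA K ⟨1, RC.one_mem, (map_conj_one K).symm⟩))
  have hKE : K ≤ layerIn G := (le_layerIn hKcomp).trans hlay
  have hd : Data G R K r := ⟨Fact.out, hR, hcop, hnorm, hKq, hKE, fun g hg => by
    refine or_iff_not_imp_left.mpr fun h => hcomm g ?_ h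
    exact hg.elim Subgroup.mem_sup_left Subgroup.mem_sup_right⟩
  by_cases hmove : ∃ L, IsCompIn G L ∧ ¬ K ≤ Subgroup.centralizer (L : Set X) ∧
      ∃ σ ∈ R, L.map (MulAut.conj σ).toMonoidHom ≠ L
  · obtain ⟨L, hL, hLK, σ, hσ, hσL⟩ := hmove
    left
    rcases hd.moved hL hLK hσ hσL with h | h
    · exact absurd h hKR
    · rw [h]; exact isCompIn_of_subgroupOf hL
  · right
    push Not at hmove
    obtain ⟨L, hL, hLK⟩ := hd.not_le_centralizer_all
    refine ⟨L, hL.le, isCompIn_of_subgroupOf hL, hmove L hL hLK, ?_⟩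
    refine le_component hKE hd.perfect hL fun M hM hne => ?_
    by_contra hMK
    exact hne (hd.fixed_unique hL hM hLK
      (fun h => hMK (Subgroup.commutator_eq_bot_iff_le_centralizer.mpr h))
      fun a ha => mem_normalizer_of_map (hmove L hL hLK a ha))

end CfsgLib.Flavell1929
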